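import Groth.Agent.H23.DblOfTrace

/-!
The conjugation of a free quadratic algebra is multiplicative.
-/

namespace Groth.Agent.DblInvol

variable {R S : Type*} [CommRing R] [CommRing S] [Algebra R S]

theorem trace_one (b : Module.Basis (Fin 2) R S) : Algebra.trace R S 1 = 2 := by
  have h := Algebra.trace_algebraMap_of_basis b (1 : R)
  rw [map_one] at h
  rw [h]
  simp

theorem conj_mul (b : Module.Basis (Fin 2) R S) (h : R) (h2 : 2 * h = 1) (x y : S) :
    (algebraMap R S (Algebra.trace R S x) - x) * (algebraMap R S (Algebra.trace R S y) - y) =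
      algebraMap R S (Algebra.trace R S (x * y)) - x * y := by
  set t := Algebra.trace R S
  obtain ⟨α, hα⟩ : ∃ α, α = h * t x := ⟨_, rfl⟩
  obtain ⟨β, hβ⟩ : ∃ β, β = h * t y := ⟨_, rfl⟩
  set u := x - algebraMap R S α with hu
  set v := y - algebraMap R S β with hv
  have htr : ∀ r : R, t (algebraMap R S r) = 2 * r := fun r => by
    refine (Algebra.trace_algebraMap_of_basis b r).trans ?_
    simp [two_mul, two_smul]
  have hsmul : ∀ (r : R) (z : S), t (algebraMap R S r * z) = r * t z := fun r z => by
    rw [← Algebra.smul_def, map_smul, smul_eq_mul]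
  have hu0 : t u = 0 := by
    rw [hu, map_sub, htr, hα]
    linear_combination (-(t x)) * h2
  have hv0 : t v = 0 := by
    rw [hv, map_sub, htr, hβ]
    linear_combination (-(t y)) * h2
  obtain ⟨r₁, e₁⟩ := H23.DblOfTrace.exists_sq_eq b u hu0
  obtain ⟨r₂, e₂⟩ := H23.DblOfTrace.exists_sq_eq b v hv0
  obtain ⟨r₃, e₃⟩ := H23.DblOfTrace.exists_sq_eq b (u + v) (by rw [map_add, hu0, hv0, add_zero])
  obtain ⟨c, hc⟩ : ∃ c, c = h * (r₃ - r₁ - r₂) := ⟨_, rfl⟩
  have huv : u * v = algebraMap R S c := by
    have e4 : algebraMap R S 2 * (u * v) = algebraMap R S (r₃ - r₁ - r₂) := by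
      rw [map_sub, map_sub, ← e₁, ← e₂, ← e₃, map_ofNat]
      ring
    have e5 : algebraMap R S h * algebraMap R S 2 = 1 := by rw [← map_mul, mul_comm, h2, map_one]
    rw [hc, map_mul, ← e4, ← mul_assoc, e5, one_mul]
  have hxy : t (x * y) = 2 * (α * β) + 2 * c := by
    have e : x * y = algebraMap R S α * algebraMap R S β + algebraMap R S α * v +
        algebraMap R S β * u + algebraMap R S c := by
      rw [← huv, hu, hv]
      ring
    rw [e, ← map_mul, map_add, map_add, map_add, htr, htr, hsmul, hsmul, hu0, hv0]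
    ring
  have hta : algebraMap R S (t x) = algebraMap R S 2 * algebraMap R S α := by
    rw [← map_mul]
    exact congrArg _ (by rw [hα]; linear_combination (-(t x)) * h2)
  have htb : algebraMap R S (t y) = algebraMap R S 2 * algebraMap R S β := by
    rw [← map_mul]
    exact congrArg _ (by rw [hβ]; linear_combination (-(t y)) * h2)
  rw [hxy, hta, htb, map_add, map_mul, map_mul, map_mul, ← huv, hu, hv, map_ofNat]
  ring

end Groth.Agent.DblInvol
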