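import Groth.Agent.DblInvol.Alg
import Groth.Agent.CurveTraceDeg.Trace
import Groth.Agent.RelSpecX.AffHom
import Groth.Prelude.Def_SGA1

/-!
The involution of a double cover.
-/

noncomputable section

set_option linter.style.haveILetI false
set_option linter.unusedSectionVars false
set_option backward.isDefEq.respectTransparency false
set_option backward.isDefEq.respectTransparency.types false

universe u

open CategoryTheory CategoryTheory.Limits AlgebraicGeometry TopologicalSpace Opposite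

namespace Groth.Agent.DblInvol

open Groth.Agent.CurveTraceDeg

variable {X Y : Scheme.{u}} (f : X ⟶ Y) [IsFinite f]
  (hA : FlatMod.IsFinLocFreeOfRank 2 (push f))

include hA

theorem isFLF : FlatMod.IsFinLocFree (push f) := fun y => let ⟨W, hy, he⟩ := hA y; ⟨W, 2, hy, he⟩

/-- The trace on functions. -/
def tr (W : Y.Opens) (a : Γ(X, f ⁻¹ᵁ W)) : Γ(Y, W) := (trace (isFLF f hA)).app W (ofFn f a)

theorem tr_add (W : Y.Opens) (a b : Γ(X, f ⁻¹ᵁ W)) : tr f hA W (a + b) = tr f hA W a + tr f hA W b := by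
  unfold tr
  exact map_add _ _ _

theorem tr_sub (W : Y.Opens) (a b : Γ(X, f ⁻¹ᵁ W)) : tr f hA W (a - b) = tr f hA W a - tr f hA W b := by
  have h := tr_add f hA W (a - b) b
  rw [sub_add_cancel] at h
  rw [h, add_sub_cancel_right]

theorem tr_smul (W : Y.Opens) (r : Γ(Y, W)) (a : Γ(X, f ⁻¹ᵁ W)) :
    tr f hA W (f.app W r * a) = r * tr f hA W a :=
  Scheme.Modules.Hom.app_smul (trace (isFLF f hA)) r (ofFn f a)

theorem res_tr {W V : Y.Opens} (h : V ≤ W) (a : Γ(X, f ⁻¹ᵁ W)) :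
    Y.presheaf.map (homOfLE h).op (tr f hA W a) =
      tr f hA V (X.presheaf.map (homOfLE (f.preimage_mono h)).op a) :=
  (ConcreteCategory.congr_hom ((trace (isFLF f hA)).mapPresheaf.naturality (homOfLE h).op) (ofFn f a)).symm

omit hA in
theorem res_app {W V : Y.Opens} (h : V ≤ W) (r : Γ(Y, W)) :
    X.presheaf.map (homOfLE (f.preimage_mono h)).op (f.app W r) =
      f.app V (Y.presheaf.map (homOfLE h).op r) :=
  (congr($(Scheme.Hom.naturality f (homOfLE h).op).hom r)).symm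

/-- Free charts of rank two below an open. -/
theorem exists_chart {W : Y.Opens} {y : Y} (hy : y ∈ W) : ∃ V : Y.Opens, IsAffineOpen V ∧ y ∈ V ∧ V ≤ W ∧
    (letI := H23.CoverPush.alg f V; Nonempty (Module.Basis (Fin 2) Γ(Y, V) Γ(X, f ⁻¹ᵁ V))) := by
  obtain ⟨U, hyU, ⟨e⟩⟩ := hA y
  obtain ⟨_, ⟨V, hV, rfl⟩, hyV, hle⟩ :=
    Y.isBasis_affineOpens.exists_subset_of_mem_open (⟨hyU, hy⟩ : y ∈ U ⊓ W) (U ⊓ W).2
  obtain ⟨l⟩ := QCoh.free_sections hV (le_trans hle inf_le_left) e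
  letI := H23.CoverPush.alg f V
  exact ⟨V, hV, hyV, le_trans hle inf_le_right,
    ⟨((Module.Basis.ofRepr ({ l with map_smul' := fun r x => l.map_smul r x } :
      Γ(X, f ⁻¹ᵁ V) ≃ₗ[Γ(Y, V)] _)).reindex Equiv.ulift)⟩⟩

theorem tr_eq {V : Y.Opens} (hV : IsAffineOpen V)
    (b : letI := H23.CoverPush.alg f V; Module.Basis (Fin 2) Γ(Y, V) Γ(X, f ⁻¹ᵁ V)) (a : Γ(X, f ⁻¹ᵁ V)) :
    tr f hA V a = (letI := H23.CoverPush.alg f V; Algebra.trace Γ(Y, V) Γ(X, f ⁻¹ᵁ V) a) := by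
  letI := H23.CoverPush.alg f V
  exact trace_app_of_free (isFLF f hA) hV (Module.Free.of_basis b) (Module.Finite.of_basis b) a

theorem tr_one (W : Y.Opens) : tr f hA W 1 = 2 := by
  choose V hV hyV hVW b using fun y : W => exists_chart f hA y.2
  refine Y.sheaf.eq_of_locally_eq' V W (fun y => homOfLE (hVW y))
    (fun y hy => Opens.mem_iSup.2 ⟨⟨y, hy⟩, hyV ⟨y, hy⟩⟩) _ _ fun y => ?_
  show Y.presheaf.map (homOfLE (hVW y)).op _ = Y.presheaf.map (homOfLE (hVW y)).op 2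
  letI := H23.CoverPush.alg f (V y)
  rw [res_tr f hA (hVW y), map_one, tr_eq f hA (hV y) (b y).some, trace_one (b y).some, map_ofNat]

/-- The conjugation. -/
def conj (W : Y.Opens) (a : Γ(X, f ⁻¹ᵁ W)) : Γ(X, f ⁻¹ᵁ W) := f.app W (tr f hA W a) - a

theorem res_conj {W V : Y.Opens} (h : V ≤ W) (a : Γ(X, f ⁻¹ᵁ W)) :
    X.presheaf.map (homOfLE (f.preimage_mono h)).op (conj f hA W a) =
      conj f hA V (X.presheaf.map (homOfLE (f.preimage_mono h)).op a) := by
  unfold conj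
  rw [map_sub, res_app f h, res_tr f hA h]

theorem conj_app (W : Y.Opens) (r : Γ(Y, W)) : conj f hA W (f.app W r) = f.app W r := by
  unfold conj
  rw [← mul_one (f.app W r), tr_smul, tr_one, mul_one, map_mul, map_ofNat]
  ring

theorem tr_conj (W : Y.Opens) (a : Γ(X, f ⁻¹ᵁ W)) : tr f hA W (conj f hA W a) = tr f hA W a := by
  unfold conj
  rw [tr_sub, ← mul_one (f.app W (tr f hA W a)), tr_smul, tr_one]
  ring

theorem conj_conj (W : Y.Opens) (a : Γ(X, f ⁻¹ᵁ W)) : conj f hA W (conj f hA W a) = a := by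
  conv_lhs => rw [conj, tr_conj, conj]
  ring

theorem conj_mul_eq (h2 : IsUnit (2 : Γ(Y, ⊤))) (W : Y.Opens) (a c : Γ(X, f ⁻¹ᵁ W)) :
    conj f hA W (a * c) = conj f hA W a * conj f hA W c := by
  choose V hV hyV hVW b using fun y : W => exists_chart f hA y.2
  refine X.sheaf.eq_of_locally_eq' (fun y => f ⁻¹ᵁ V y) (f ⁻¹ᵁ W)
    (fun y => homOfLE (f.preimage_mono (hVW y)))
    (fun x hx => Opens.mem_iSup.2 ⟨⟨f x, hx⟩, hyV ⟨f x, hx⟩⟩) _ _ fun y => ?_
  show X.presheaf.map (homOfLE (f.preimage_mono (hVW y))).op _ =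
    X.presheaf.map (homOfLE (f.preimage_mono (hVW y))).op _
  rw [res_conj f hA (hVW y), map_mul, map_mul, res_conj f hA (hVW y), res_conj f hA (hVW y)]
  letI := H23.CoverPush.alg f (V y)
  obtain ⟨u, hu⟩ := h2
  have hh : (2 : Γ(Y, V y)) * Y.presheaf.map (homOfLE (le_top : V y ≤ ⊤)).op (↑u⁻¹ : Γ(Y, ⊤)) = 1 := by
    rw [← map_ofNat (Y.presheaf.map (homOfLE (le_top : V y ≤ ⊤)).op).hom 2, ← map_mul, ← hu, Units.mul_inv,
      map_one]
  have key := conj_mul (b y).some _ hh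
    (X.presheaf.map (homOfLE (f.preimage_mono (hVW y))).op a)
    (X.presheaf.map (homOfLE (f.preimage_mono (hVW y))).op c)
  unfold conj
  rw [tr_eq f hA (hV y) (b y).some, tr_eq f hA (hV y) (b y).some, tr_eq f hA (hV y) (b y).some]
  exact key.symm

variable (h2 : IsUnit (2 : Γ(Y, ⊤)))

/-- The conjugation as a ring map. -/
def conjHom (W : Y.Opens) : Γ(X, f ⁻¹ᵁ W) →+* Γ(X, f ⁻¹ᵁ W) where
  toFun := conj f hA W
  map_one' := by
    have h := conj_app f hA W 1
    rwa [map_one] at h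
  map_mul' := conj_mul_eq f hA h2 W
  map_zero' := by
    have h := conj_app f hA W 0
    rwa [map_zero] at h
  map_add' a c := by
    unfold conj
    rw [tr_add, map_add]
    ring

/-- The conjugation of the direct image algebra. -/
def conjAlg : AffAlg.algHoms f f :=
  ⟨{ app := fun W => CommRingCat.ofHom (conjHom f hA h2 W.unop)
     naturality := fun W W' i => by
      ext a
      exact (res_conj f hA i.unop.le a).symm },
   by
    refine NatTrans.ext (funext fun W => ?_)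
    ext r
    exact conj_app f hA W.unop r⟩

/-- The involution. -/
def invol : X ⟶ X := RelSpecX.ofAlgHom f f (conjAlg f hA h2)

theorem invol_comp : invol f hA h2 ≫ f = f := RelSpecX.ofAlgHom_comp f f _

theorem invol_invol : invol f hA h2 ≫ invol f hA h2 = 𝟙 X := by
  refine RelSpecX.algHom_injective f f (by rw [Category.assoc, invol_comp, invol_comp]) (Category.id_comp f)
    fun U => ?_
  rw [RelSpecX.algHom_comp f f f (invol f hA h2) (invol_comp f hA h2) (invol f hA h2) (invol_comp f hA h2),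
    RelSpecX.algHom_id]
  unfold invol
  rw [RelSpecX.algHom_ofAlgHom]
  ext a
  exact conj_conj f hA U.1 a

theorem appLE_invol (U : Y.Opens) (e : f ⁻¹ᵁ U ≤ invol f hA h2 ⁻¹ᵁ (f ⁻¹ᵁ U)) (s : Γ(X, f ⁻¹ᵁ U)) :
    (invol f hA h2).appLE (f ⁻¹ᵁ U) (f ⁻¹ᵁ U) e s = conj f hA U s := by
  have h := RelSpecX.algHom_app f f (invol f hA h2) (invol_comp f hA h2) U
  unfold invol at h ⊢
  rw [RelSpecX.algHom_ofAlgHom] at h
  exact congr($(h.symm).hom s)

include h2 in
theorem app_injective (W : Y.Opens) : Function.Injective (f.app W).hom := by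
  refine (injective_iff_map_eq_zero _).2 fun r hr => ?_
  obtain ⟨u, hu⟩ := h2
  have h1 := tr_smul f hA W r 1
  rw [mul_one, tr_one, hr] at h1
  have h0 : tr f hA W 0 = 0 := by unfold tr; exact map_zero _
  rw [h0] at h1
  have hh : (2 : Γ(Y, W)) * Y.presheaf.map (homOfLE (le_top : W ≤ ⊤)).op (↑u⁻¹ : Γ(Y, ⊤)) = 1 := by
    rw [← map_ofNat (Y.presheaf.map (homOfLE (le_top : W ≤ ⊤)).op).hom 2, ← map_mul, ← hu, Units.mul_inv,
      map_one]
  rw [← mul_one r, ← hh, ← mul_assoc, ← h1, zero_mul]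

include h2 in
theorem mem_range_of_conj (W : Y.Opens) (s : Γ(X, f ⁻¹ᵁ W)) (hs : conj f hA W s = s) :
    s ∈ Set.range (f.app W).hom := by
  obtain ⟨u, hu⟩ := h2
  have hh : (2 : Γ(Y, W)) * Y.presheaf.map (homOfLE (le_top : W ≤ ⊤)).op (↑u⁻¹ : Γ(Y, ⊤)) = 1 := by
    rw [← map_ofNat (Y.presheaf.map (homOfLE (le_top : W ≤ ⊤)).op).hom 2, ← map_mul, ← hu, Units.mul_inv,
      map_one]
  refine ⟨Y.presheaf.map (homOfLE (le_top : W ≤ ⊤)).op (↑u⁻¹ : Γ(Y, ⊤)) * tr f hA W s, ?_⟩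
  unfold conj at hs
  rw [map_mul]
  have e : f.app W (tr f hA W s) = 2 * s := by linear_combination hs
  have hh' := congrArg (f.app W) hh
  rw [map_mul, map_ofNat, map_one] at hh'
  rw [e]
  linear_combination s * hh'

omit hA in
theorem aut_eq (σ : Aut X) (hσ : σ * σ = 1) (g : Subgroup.zpowers σ) : (g : Aut X) = 1 ∨ (g : Aut X) = σ := by
  obtain ⟨n, hn⟩ := Subgroup.mem_zpowers_iff.1 g.2
  rw [← hn]
  rcases Int.even_or_odd n with ⟨m, rfl⟩ | ⟨m, rfl⟩
  · exact Or.inl (by rw [zpow_add, ← (Commute.refl σ).mul_zpow, hσ, one_zpow])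
  · exact Or.inr (by rw [two_mul, zpow_add, zpow_add, ← (Commute.refl σ).mul_zpow, hσ, one_zpow, zpow_one,
      one_mul])

include h2 in
theorem exists_invol : ∃ σ : Aut X, σ.hom ≫ f = f ∧ σ * σ = 1 ∧
    SGA1.IsQuot (Subgroup.zpowers σ).subtype f := by
  let σ : Aut X := ⟨invol f hA h2, invol f hA h2, invol_invol f hA h2, invol_invol f hA h2⟩
  have hσ : σ * σ = 1 := Iso.ext (invol_invol f hA h2)
  have hinv : ∀ g : Subgroup.zpowers σ, ((g : Aut X)).hom ≫ f = f := fun g => by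
    rcases aut_eq σ hσ g with h | h <;> rw [h]
    · exact Category.id_comp f
    · exact invol_comp f hA h2
  refine ⟨σ, invol_comp f hA h2, hσ, ⟨inferInstance, hinv, app_injective f hA h2, fun U s => ⟨?_, fun h => ?_⟩⟩⟩
  · rintro ⟨r, rfl⟩ g
    have key : ∀ (τ : Aut X) (e : f ⁻¹ᵁ U ≤ τ.hom ⁻¹ᵁ (f ⁻¹ᵁ U)), τ = 1 ∨ τ = σ →
        τ.hom.appLE (f ⁻¹ᵁ U) (f ⁻¹ᵁ U) e (f.app U r) = f.app U r := by
      rintro τ e (rfl | rfl)
      · have he : (1 : Aut X).hom.appLE (f ⁻¹ᵁ U) (f ⁻¹ᵁ U) e = 𝟙 _ := by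
          show (𝟙 X : X ⟶ X).appLE _ _ _ = _
          simp [Scheme.Hom.appLE]
          exact X.presheaf.map_id _
        rw [he]
        rfl
      · exact (appLE_invol f hA h2 U e _).trans (conj_app f hA U r)
    exact key _ _ (aut_eq σ hσ g)
  · exact mem_range_of_conj f hA h2 U s
      ((appLE_invol f hA h2 U _ s).symm.trans (h ⟨σ, Subgroup.mem_zpowers σ⟩))

end Groth.Agent.DblInvol
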